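/-
Inner products over the p-regular elements and block defects (namespace `Cfsg.Agent.BlockDefect`).

Main results: `regInner`, `sum_block_regInner` (the p-regular part of a character of `B` expands in `B`),
`exists_degrees` (defect and degrees), `sum_sylow_eq` (a character sums to `p ^ a` times a natural over a
Sylow subgroup), `exists_sum_sq` (exact p-part of the sum of squared degrees of a block),
`memI_blockCoeff_of_lt`, `memI_centralChar_of_lt` (classes of defect above / below the block defect).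
-/
import Cfsg.Agent.Lib.Blocks.Defect

set_option autoImplicit false
set_option linter.unusedSectionVars false
set_option linter.style.haveILetI false

open scoped ComplexConjugate

namespace Cfsg.Agent.BlockDefect

open Cfsg Blocks

variable {G : Type*} [Group G] [Fintype G] {p : ℕ} {M : Ideal AlgInt}

/-- `x ↦ χ x⁻¹` on `p`-regular elements, zero elsewhere. -/
noncomputable def regFun (p : ℕ) (χ : G → ℂ) (x : G) : ℂ := if p ∣ orderOf x then 0 else χ x⁻¹

/-- The inner product over the `p`-regular elements. -/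
noncomputable def regInner (p : ℕ) (χ ψ : G → ℂ) : ℂ :=
  (Nat.card G : ℂ)⁻¹ * ∑ x, regFun p χ x * ψ x

theorem regInner_comm (χ ψ : G → ℂ) : regInner p χ ψ = regInner p ψ χ := by
  unfold regInner
  congr 1
  refine Fintype.sum_equiv (Equiv.inv G) _ _ fun x => ?_
  simp only [regFun, Equiv.inv_apply, orderOf_inv, inv_inv]
  split_ifs <;> ring

theorem isClassFunction_regFun {χ : G → ℂ} (hχ : IsClassFunction G χ) :
    IsClassFunction G (regFun p χ) := fun g h => by
  have h1 : orderOf (h * g * h⁻¹) = orderOf g :=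
    orderOf_injective (MulAut.conj h).toMonoidHom (MulEquiv.injective _) g
  simp only [regFun, h1]
  rw [show (h * g * h⁻¹)⁻¹ = h * g⁻¹ * h⁻¹ by group, hχ]

theorem memR_regFun (hM : IsPModular p M) (χ : IrrCharacter G) (x : G) :
    MemLocalRing M (regFun p (χ : G → ℂ) x) := by
  rw [regFun]
  split_ifs
  · exact memR_zero hM
  · exact memR_of_isIntegral hM (isIntegral_irr χ _)

theorem regInner_eq_omega (χ : G → ℂ) (ψ : IrrCharacter G) :
    regInner p χ (ψ : G → ℂ) = (ψ : G → ℂ) 1 / (Nat.card G : ℂ) * omega (ψ : G → ℂ) (regFun p χ) := by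
  have := irr_one_ne_zero ψ
  rw [omega_eq_sum, regInner]
  field_simp

theorem memI_omega_sub (hM : IsPModular p M) {z : G → ℂ} (hz : IsClassFunction G z)
    (hR : ∀ x, MemLocalRing M (z x)) {χ ψ : IrrCharacter G}
    (h : SameBlock M (χ : G → ℂ) (ψ : G → ℂ)) :
    MemLocalIdeal M (omega (χ : G → ℂ) z - omega (ψ : G → ℂ) z) := by
  have := Fintype.ofFinite (ConjClasses G)
  rw [omega_eq_sum_classes hz, omega_eq_sum_classes hz, ← Finset.sum_sub_distrib]
  refine memI_sum hM _ fun q _ => ?_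
  rw [← mul_sub]
  exact memI_mul_left hM (hR _) (h _)

/-- The `p`-regular part of a character of a block expands inside the block. -/
theorem sum_block_regInner [Fintype (IrrCharacter G)] (hM : IsPModular p M)
    {B : Set (IrrCharacter G)} [DecidablePred (· ∈ B)] (hB : IsPBlock M B) {χ : IrrCharacter G}
    (hχ : χ ∈ B) (y : G) :
    ∑ ψ ∈ Finset.univ.filter (· ∈ B), regInner p (χ : G → ℂ) (ψ : G → ℂ) * (ψ : G → ℂ) y =
      if p ∣ orderOf y then 0 else (χ : G → ℂ) y := by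
  classical
  have hint := blockInd_mem_intRing hM hB
  have hwo : ∀ {a b : G}, ¬ p ∣ orderOf a → p ∣ orderOf b →
      ∑ ψ ∈ Finset.univ.filter (· ∈ B), (ψ : G → ℂ) a * conj ((ψ : G → ℂ) b) = 0 := by
    intro a b ha hb
    have h := weak_orth hM hint ha hb
    rw [finsum_mem_eq_finite_toFinset_sum _ (Set.toFinite B)] at h
    rw [← h]
    exact Finset.sum_congr (by ext; simp) fun _ _ => rfl
  have key : ∀ ψ : IrrCharacter G, regInner p (χ : G → ℂ) (ψ : G → ℂ) =
      (Nat.card G : ℂ)⁻¹ * ∑ x, (if p ∣ orderOf x then 0 else (χ : G → ℂ) x) * conj ((ψ : G → ℂ) x) := by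
    intro ψ
    rw [regInner_comm]
    unfold regInner
    congr 1
    refine Finset.sum_congr rfl fun x _ => ?_
    simp only [regFun]
    split_ifs
    · ring
    · rw [Char.IsCharacter.apply_inv (Char.IsIrrCharacter.isCharacter ψ.2)]; ring
  simp only [key, mul_assoc, ← Finset.mul_sum, Finset.sum_mul]
  rw [Finset.sum_comm]
  by_cases hy : p ∣ orderOf y
  · rw [if_pos hy, Finset.sum_eq_zero, mul_zero]
    intro x _
    by_cases hx : p ∣ orderOf x
    · simp [if_pos hx]
    · have h := congrArg conj (hwo hx hy)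
      rw [map_sum, map_zero] at h
      simp only [map_mul, Complex.conj_conj] at h
      rw [← Finset.mul_sum, h, mul_zero]
  · rw [if_neg hy]
    have hrep : ∀ x : G, ∑ ψ ∈ Finset.univ.filter (· ∈ B),
        (if p ∣ orderOf x then 0 else (χ : G → ℂ) x) * (conj ((ψ : G → ℂ) x) * (ψ : G → ℂ) y) =
        ∑ ψ ∈ Finset.univ.filter (· ∈ B), (χ : G → ℂ) x * (conj ((ψ : G → ℂ) x) * (ψ : G → ℂ) y) := by
      intro x
      by_cases hx : p ∣ orderOf x
      · rw [if_pos hx, ← Finset.mul_sum, ← Finset.mul_sum, zero_mul,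
          Finset.sum_congr rfl (g := fun ψ : IrrCharacter G => (ψ : G → ℂ) y * conj ((ψ : G → ℂ) x))
            (fun _ _ => mul_comm _ _), hwo hy hx, mul_zero]
      · rw [if_neg hx]
    rw [Finset.sum_congr rfl fun x _ => hrep x, Finset.sum_comm, Finset.mul_sum,
      Finset.sum_eq_single χ]
    · rw [Finset.sum_congr rfl (g := fun x => (χ : G → ℂ) x * conj ((χ : G → ℂ) x) * (χ : G → ℂ) y)
        (fun _ _ => by ring), ← Finset.sum_mul, ← mul_assoc]
      rw [show (Nat.card G : ℂ)⁻¹ * ∑ x, (χ : G → ℂ) x * conj ((χ : G → ℂ) x) =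
        classInner (χ : G → ℂ) (χ : G → ℂ) from rfl, Char.classInner_irr_self χ.2, one_mul]
    · intro ψ _ hne
      rw [Finset.sum_congr rfl (g := fun x => (χ : G → ℂ) x * conj ((ψ : G → ℂ) x) * (ψ : G → ℂ) y)
        (fun _ _ => by ring), ← Finset.sum_mul, ← mul_assoc,
        show (Nat.card G : ℂ)⁻¹ * ∑ x, (χ : G → ℂ) x * conj ((ψ : G → ℂ) x) =
        classInner (χ : G → ℂ) (ψ : G → ℂ) from rfl,
        Char.classInner_irr_of_ne χ.2 ψ.2 (fun h => hne (Subtype.ext h.symm)), zero_mul]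
    · intro h; exact absurd (Finset.mem_filter.mpr ⟨Finset.mem_univ _, hχ⟩) h

/-- The defect of a block in terms of degrees. -/
theorem exists_degrees (hM : IsPModular p M) {B : Set (IrrCharacter G)} (hB : IsPBlock M B) :
    ∃ e h : ℕ, ∃ φ ∈ B, e ≤ (Nat.card G).factorization p ∧
      blockDefect p B = (Nat.card G).factorization p - e ∧
      charDegree (φ : G → ℂ) = p ^ e * h ∧ ¬ p ∣ h ∧ ∀ ψ ∈ B, p ^ e ∣ charDegree (ψ : G → ℂ) := by
  obtain ⟨φ, hφ, he⟩ := Nat.sInf_mem ((isPBlock_nonempty hM hB).image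
    (fun χ : IrrCharacter G => (charDegree (χ : G → ℂ)).factorization p))
  refine ⟨_, charDegree (φ : G → ℂ) / p ^ (charDegree (φ : G → ℂ)).factorization p, φ, hφ, ?_, ?_,
    (Nat.ordProj_mul_ordCompl_eq_self _ p).symm, Nat.not_dvd_ordCompl hM.1 (charDegree_pos φ).ne',
    fun ψ hψ => ?_⟩
  · exact (Nat.factorization_le_iff_dvd (charDegree_pos φ).ne' Nat.card_pos.ne').mpr
      (charDegree_dvd_card φ) p
  · rw [blockDefect, ← he]
  · refine (hM.1.pow_dvd_iff_le_factorization (charDegree_pos ψ).ne').mpr ?_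
    exact le_trans (le_of_eq he) (Nat.sInf_le ⟨ψ, hψ, rfl⟩)

/-- A character sums to a multiple of the order over a subgroup. -/
theorem sum_subgroup_eq {χ : G → ℂ} (hχ : IsCharacter G χ) (H : Subgroup G) [Fintype H] :
    ∃ n : ℕ, ∑ u : H, χ (u : G) = (Nat.card H : ℂ) * n := by
  obtain ⟨n, hn⟩ := Char.IsCharacter.classInner_nat (Char.IsCharacter.restrict hχ H)
    (Char.isCharacter_one (G := H))
  refine ⟨n, ?_⟩
  rw [← hn, classInner, ← mul_assoc, mul_inv_cancel₀ (Nat.cast_ne_zero.mpr Nat.card_pos.ne'), one_mul]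
  simp

theorem sum_pGroup_eq_apply_one (hp : p.Prime) {H : Subgroup G} [Fintype H] (hH : IsPGroup p H)
    {f : G → ℂ} (hf : ∀ y, p ∣ orderOf y → f y = 0) : ∑ u : H, f (u : G) = f 1 := by
  rw [Finset.sum_eq_single (1 : H) (fun u _ hu => hf _ ?_) (fun h => absurd (Finset.mem_univ _) h),
    OneMemClass.coe_one]
  have := Fact.mk hp
  obtain ⟨k, hk⟩ := IsPGroup.iff_orderOf.mp hH u
  rw [Subgroup.orderOf_coe, hk]
  exact dvd_pow_self p fun h0 => hu (orderOf_eq_one_iff.mp (by rw [hk, h0, pow_zero]))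

/-- The exact `p`-part of the sum of the squared degrees of a block. -/
theorem exists_sum_sq [Fintype (IrrCharacter G)] (hM : IsPModular p M) {B : Set (IrrCharacter G)}
    [DecidablePred (· ∈ B)] (hB : IsPBlock M B) {e h : ℕ} {φ : IrrCharacter G} (hφ : φ ∈ B)
    (hdeg : charDegree (φ : G → ℂ) = p ^ e * h)
    (hh : ¬ p ∣ h) (hall : ∀ ψ ∈ B, p ^ e ∣ charDegree (ψ : G → ℂ)) :
    ∃ N : ℕ, ¬ p ∣ N ∧ ∑ ψ ∈ Finset.univ.filter (· ∈ B), charDegree (ψ : G → ℂ) ^ 2 =
      p ^ ((Nat.card G).factorization p + e) * N := by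
  classical
  haveI : Fact p.Prime := ⟨hM.1⟩
  set a := (Nat.card G).factorization p with ha
  obtain ⟨m, hm, hN⟩ : ∃ m, ¬ p ∣ m ∧ Nat.card G = p ^ a * m :=
    ⟨_, Nat.not_dvd_ordCompl hM.1 Nat.card_pos.ne', (Nat.ordProj_mul_ordCompl_eq_self _ p).symm⟩
  obtain ⟨P⟩ := (inferInstance : Nonempty (Sylow p G))
  have hP : Nat.card (P : Subgroup G) = p ^ a := P.card_eq_multiplicity
  choose mult hmult using fun ψ : IrrCharacter G =>
    sum_subgroup_eq (Char.IsIrrCharacter.isCharacter ψ.2) (P : Subgroup G)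
  let hh' : IrrCharacter G → ℕ := fun ψ => charDegree (ψ : G → ℂ) / p ^ e
  have hh'eq : ∀ ψ ∈ B, (ψ : G → ℂ) 1 = (p : ℂ) ^ e * (hh' ψ : ℂ) := fun ψ hψ => by
    rw [← charDegree_cast]; conv_lhs => rw [← Nat.mul_div_cancel' (hall ψ hψ)]
    push_cast; rfl
  set z := regFun p (φ : G → ℂ) with hz
  have hp0 : (p : ℂ) ≠ 0 := Nat.cast_ne_zero.mpr hM.1.ne_zero
  have hm0 : (m : ℂ) ≠ 0 := Nat.cast_ne_zero.mpr fun h0 => hm (h0 ▸ dvd_zero p)
  set S : ℕ := ∑ ψ ∈ Finset.univ.filter (· ∈ B), hh' ψ * mult ψ with hS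
  set κ := (m : ℂ)⁻¹ * omega (φ : G → ℂ) z with hκ
  have hκR : MemLocalRing M κ := memR_mul hM (memR_natCast_inv hM hm)
    (memR_omega hM (isClassFunction_regFun (irr_class φ)) (memR_regFun hM φ) φ)
  have h1 : ∑ ψ ∈ Finset.univ.filter (· ∈ B),
      ((hh' ψ : ℂ) * (m : ℂ)⁻¹ * omega (ψ : G → ℂ) z) * (mult ψ : ℂ) = (h : ℂ) := by
    have e1 : (φ : G → ℂ) 1 = (p : ℂ) ^ a *
        ∑ ψ ∈ Finset.univ.filter (· ∈ B), regInner p (φ : G → ℂ) (ψ : G → ℂ) * (mult ψ : ℂ) := by
      have h0 := sum_pGroup_eq_apply_one (H := (P : Subgroup G)) hM.1 P.isPGroup'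
        (f := fun y => if p ∣ orderOf y then 0 else (φ : G → ℂ) y) (fun y hy => if_pos hy)
      simp only [orderOf_one, Nat.dvd_one, hM.1.ne_one, if_false] at h0
      rw [← h0]
      simp only [← sum_block_regInner hM hB hφ]
      rw [Finset.sum_comm, Finset.mul_sum]
      refine Finset.sum_congr rfl fun ψ _ => ?_
      rw [← Finset.mul_sum, hmult, hP]
      push_cast; ring
    rw [hh'eq φ hφ, show hh' φ = h by simp [hh', hdeg, Nat.mul_div_cancel_left _ (pow_pos hM.1.pos e)],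
      Finset.mul_sum, Finset.sum_congr rfl (g := fun ψ : IrrCharacter G => (p : ℂ) ^ e *
        (((hh' ψ : ℂ) * (m : ℂ)⁻¹ * omega (ψ : G → ℂ) z) * (mult ψ : ℂ))) (fun ψ hψ => by
        rw [regInner_eq_omega, hh'eq ψ (Finset.mem_filter.mp hψ).2, hN]
        push_cast
        field_simp
        ring), ← Finset.mul_sum] at e1
    exact (mul_left_cancel₀ (pow_ne_zero e hp0) e1).symm
  have h2 : MemLocalIdeal M ((h : ℂ) - κ * (S : ℂ)) := by
    rw [← h1, hS, Nat.cast_sum, Finset.mul_sum, ← Finset.sum_sub_distrib]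
    refine memI_sum hM _ fun ψ hψ => ?_
    rw [hκ, Nat.cast_mul, show ((hh' ψ : ℂ) * (m : ℂ)⁻¹ * omega (ψ : G → ℂ) z) * (mult ψ : ℂ) -
      (m : ℂ)⁻¹ * omega (φ : G → ℂ) z * ((hh' ψ : ℂ) * (mult ψ : ℂ)) =
      ((hh' ψ : ℂ) * (m : ℂ)⁻¹ * (mult ψ : ℂ)) *
        (omega (ψ : G → ℂ) z - omega (φ : G → ℂ) z) by ring]
    exact memI_mul_left hM (memR_mul hM (memR_mul hM (memR_natCast hM _) (memR_natCast_inv hM hm))
      (memR_natCast hM _)) (memI_omega_sub hM (isClassFunction_regFun (irr_class φ))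
        (memR_regFun hM φ) (sameBlock_of_mem hM hB (Finset.mem_filter.mp hψ).2 hφ))
  refine ⟨S, fun hdiv => not_memI_natCast hM hh ?_, ?_⟩
  · exact (memI_iff_of_sub hM h2).mpr (memI_mul_left hM hκR ((memI_natCast hM).mpr hdiv))
  · have hvanish : ∀ y : G, p ∣ orderOf y →
        ∑ ψ ∈ Finset.univ.filter (· ∈ B), (ψ : G → ℂ) 1 * (ψ : G → ℂ) y = 0 := by
      intro y hy
      have h' := weak_orth hM (blockInd_mem_intRing hM hB) (x := 1) (y := y⁻¹)
        (by simpa using hM.1.ne_one) (by rwa [orderOf_inv])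
      rw [finsum_mem_eq_finite_toFinset_sum _ (Set.toFinite B)] at h'
      rw [← h']
      refine Finset.sum_congr (by ext; simp) fun ψ _ => ?_
      rw [Char.IsCharacter.apply_inv (Char.IsIrrCharacter.isCharacter ψ.2), Complex.conj_conj]
    have h0 := sum_pGroup_eq_apply_one (H := (P : Subgroup G)) hM.1 P.isPGroup' hvanish
    rw [Finset.sum_comm] at h0
    apply Nat.cast_injective (R := ℂ)
    push_cast
    rw [Finset.sum_congr rfl (g := fun ψ : IrrCharacter G => (ψ : G → ℂ) 1 * (ψ : G → ℂ) 1)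
      (fun ψ _ => by rw [charDegree_cast, sq]), ← h0, hS, Nat.cast_sum, Finset.mul_sum]
    refine Finset.sum_congr rfl fun ψ hψ => ?_
    rw [← Finset.mul_sum, hmult, hP, hh'eq ψ (Finset.mem_filter.mp hψ).2]
    push_cast; ring

/-- The coefficient of the block idempotent vanishes mod `M` on classes of too large defect. -/
theorem memI_blockCoeff_of_lt (hM : IsPModular p M) {B : Set (IrrCharacter G)} (hB : IsPBlock M B)
    {e : ℕ} (hall : ∀ ψ ∈ B, p ^ e ∣ charDegree (ψ : G → ℂ)) {g : G} {k : ℕ}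
    (hk : p ^ k ∣ Nat.card (Subgroup.centralizer ({g} : Set G)))
    (hlt : (Nat.card G).factorization p < k + e) : MemLocalIdeal M (blockCoeff B g) := by
  classical
  haveI : Fact p.Prime := ⟨hM.1⟩
  have := Fintype.ofFinite (IrrCharacter G)
  set f : G → ℂ := ofOmega (blockInd B)
  rw [blockCoeff_eq_ofOmega]
  by_cases hreg : p ∣ orderOf g
  · rw [ofOmega_singular_eq_zero hM (blockInd_mem_intRing hM hB) hreg]; exact memI_zero hM
  obtain ⟨D, hDcard⟩ := Sylow.exists_subgroup_card_pow_prime p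
    (G := Subgroup.centralizer ({g} : Set G)) hk
  set D' : Subgroup G := D.map (Subgroup.centralizer ({g} : Set G)).subtype with hD'
  have hD'card : Nat.card D' = p ^ k := by
    rw [hD', Subgroup.card_map_of_injective Subtype.val_injective, hDcard]
  have hD'p : IsPGroup p D' := IsPGroup.of_card hD'card
  have hgC : g ∈ Subgroup.centralizer (D' : Set G) :=
    le_centralizer_singleton.mp (Subgroup.map_subtype_le D)
  have hgC' : g⁻¹ ∈ Subgroup.centralizer (D' : Set G) := Subgroup.inv_mem _ hgC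
  have hsum : ∑ u : D', f (g * u) = f g := by
    rw [Finset.sum_eq_single (1 : D') (fun u _ hu => ?_) (fun h => absurd (Finset.mem_univ _) h),
      OneMemClass.coe_one, mul_one]
    refine ofOmega_singular_eq_zero hM (blockInd_mem_intRing hM hB) ?_
    have hcomm : Commute g (u : G) := (Subgroup.mem_centralizer_iff.mp hgC u u.2).symm
    obtain ⟨i, hi⟩ := IsPGroup.iff_orderOf.mp hD'p u
    rw [← Subgroup.orderOf_coe] at hi
    have hco : Nat.Coprime (orderOf g) (orderOf (u : G)) := by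
      rw [hi]
      exact Nat.Coprime.pow_right _ ((hM.1.coprime_iff_not_dvd).mpr hreg).symm
    rw [hcomm.orderOf_mul_eq_mul_orderOf_of_coprime hco, hi]
    refine dvd_mul_of_dvd_right (dvd_pow_self p fun h0 => hu ?_) _
    rw [h0, pow_zero, orderOf_eq_one_iff] at hi
    exact Subtype.ext hi
  obtain ⟨j, hj⟩ := Nat.exists_eq_add_of_lt hlt
  obtain ⟨m, hm, hN⟩ : ∃ m, ¬ p ∣ m ∧ Nat.card G = p ^ (Nat.card G).factorization p * m :=
    ⟨_, Nat.not_dvd_ordCompl hM.1 Nat.card_pos.ne', (Nat.ordProj_mul_ordCompl_eq_self _ p).symm⟩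
  change MemLocalIdeal M (f g)
  rw [← hsum]
  simp only [f, ofOmega_eq_sum, ← Finset.mul_sum]
  rw [Finset.sum_comm, Finset.mul_sum]
  refine memI_sum hM _ fun χ _ => ?_
  by_cases hχ : χ ∈ B
  · obtain ⟨r, hr⟩ := hall χ hχ
    have hconj : ∑ u : D', blockInd B χ * (χ : G → ℂ) 1 * conj ((χ : G → ℂ) (g * u)) =
        (χ : G → ℂ) 1 * ∑ u : D', (χ : G → ℂ) (g⁻¹ * u) := by
      rw [← Finset.mul_sum, blockInd_of_mem hχ, one_mul]
      congr 1
      refine Fintype.sum_equiv (Equiv.inv D') _ _ fun u => ?_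
      rw [← Char.IsCharacter.apply_inv (Char.IsIrrCharacter.isCharacter χ.2), Equiv.inv_apply,
        Subgroup.coe_inv, mul_inv_rev,
        (Subgroup.mem_centralizer_iff.mp hgC' _ (D'.inv_mem u.2) : (u : G)⁻¹ * g⁻¹ = g⁻¹ * (u : G)⁻¹)]
    have hp0 : (p : ℂ) ≠ 0 := Nat.cast_ne_zero.mpr hM.1.ne_zero
    have hm0 : (m : ℂ) ≠ 0 := Nat.cast_ne_zero.mpr fun h0 => hm (h0 ▸ dvd_zero p)
    have key : (Nat.card G : ℂ)⁻¹ * ((χ : G → ℂ) 1 * ∑ u : D', (χ : G → ℂ) (g⁻¹ * u)) =
        (p : ℂ) * ((p : ℂ) ^ j * ((r : ℂ) * ((m : ℂ)⁻¹ *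
          ((Nat.card D' : ℂ)⁻¹ * ∑ u : D', (χ : G → ℂ) (g⁻¹ * u))))) := by
      rw [← charDegree_cast, hr, hN, hD'card]
      push_cast
      field_simp
      have eq : (p : ℂ) ^ e * (p : ℂ) ^ k =
          (p : ℂ) ^ (Nat.card G).factorization p * (p : ℂ) * (p : ℂ) ^ j := by
        rw [← pow_add, mul_assoc, ← pow_succ', ← pow_add]
        congr 1
        omega
      linear_combination ((r : ℂ) * ∑ u : D', (χ : G → ℂ) (g⁻¹ * u)) * eq
    rw [hconj, key]
    exact memI_mul_right hM (memI_p hM) (memR_mul hM (memR_pow hM (memR_natCast hM p) j)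
      (memR_mul hM (memR_natCast hM r) (memR_mul hM (memR_natCast_inv hM hm)
        (memR_of_isIntegral hM
          (isIntegral_avg (Char.IsIrrCharacter.isCharacter χ.2) D' hgC')))))
  · simp only [blockInd_of_notMem hχ, zero_mul, Finset.sum_const_zero, mul_zero]
    exact memI_zero hM

/-- Central characters vanish mod `M` on classes of too small defect. -/
theorem memI_centralChar_of_lt (hM : IsPModular p M) {B : Set (IrrCharacter G)} (hB : IsPBlock M B)
    {χ φ : IrrCharacter G} (hχ : χ ∈ B) (hφ : φ ∈ B) {e h : ℕ}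
    (hdeg : charDegree (φ : G → ℂ) = p ^ e * h) (hh : ¬ p ∣ h) {g : G}
    (hlt : (Nat.card (Subgroup.centralizer ({g} : Set G))).factorization p + e <
      (Nat.card G).factorization p) :
    MemLocalIdeal M (centralChar (χ : G → ℂ) g) := by
  refine (memI_iff_of_sub hM (sameBlock_of_mem hM hB hχ hφ g)).mpr ?_
  set C := Subgroup.centralizer ({g} : Set G) with hC
  have hC0 : Nat.card C ≠ 0 := Nat.card_pos.ne'
  have hdvd : p ^ (e + 1) ∣ C.index := by
    refine (hM.1.pow_dvd_iff_le_factorization C.index_ne_zero_of_finite).mpr ?_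
    rw [← C.card_mul_index, Nat.factorization_mul hC0 C.index_ne_zero_of_finite] at hlt
    simp only [Finsupp.add_apply] at hlt
    omega
  obtain ⟨r, hr⟩ := hdvd
  have hp0 : (p : ℂ) ≠ 0 := Nat.cast_ne_zero.mpr hM.1.ne_zero
  have hh0 : (h : ℂ) ≠ 0 := Nat.cast_ne_zero.mpr fun h0 => hh (h0 ▸ dvd_zero p)
  have key : centralChar (φ : G → ℂ) g = (p : ℂ) * ((r : ℂ) * ((φ : G → ℂ) g * (h : ℂ)⁻¹)) := by
    rw [centralChar, ← charDegree_cast, hdeg, ← hC, hr]
    push_cast
    field_simp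
    ring
  rw [key]
  exact memI_mul_right hM (memI_p hM) (memR_mul hM (memR_natCast hM r)
    (memR_mul hM (memR_of_isIntegral hM (isIntegral_irr φ g)) (memR_natCast_inv hM hh)))

end Cfsg.Agent.BlockDefect
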