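/-
Blocks of defect `d` seen on the p-regular classes of defect `d` (namespace `Cfsg.Agent.BlockDefect`).

Main results: `IsDefClass`, `memI_blockInd_sub_sum` (the idempotent of a block of defect `d` at a
character of a block of defect `d` is a sum over these classes), `card_blocks_le`.
-/
import Cfsg.Agent.Lib.BlockDefect.RegInner

set_option autoImplicit false
set_option linter.unusedSectionVars false

namespace Cfsg.Agent.BlockDefect

open Cfsg Blocks

variable {G : Type*} [Group G] [Fintype G] {p : ℕ} {M : Ideal AlgInt}

/-- A `p`-regular element whose class has defect `d`. -/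
def IsDefClass (p d : ℕ) (g : G) : Prop :=
  ¬ p ∣ orderOf g ∧ (Nat.card (Subgroup.centralizer ({g} : Set G))).factorization p = d

theorem memI_blockInd_sub_sum {d : ℕ} [Fintype (ConjClasses G)] [DecidablePred (IsDefClass (G := G) p d)]
    (hM : IsPModular p M)
    {B : Set (IrrCharacter G)} (hB : IsPBlock M B) (hd : blockDefect p B = d)
    (χ : IrrCharacter G) (hχ : blockDefect p (blockOf M (χ : G → ℂ)) = d) :
    MemLocalIdeal M (blockInd B χ - ∑ q : ConjClasses G,
      if IsDefClass p d q.out then blockCoeff B q.out * centralChar (χ : G → ℂ) q.out else 0) := by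
  obtain ⟨e, h, φ, hφ, hea, hde, -, -, hall⟩ := exists_degrees hM hB
  have hB' := isPBlock_blockOf (M := M) hM χ
  obtain ⟨e', h', φ', hφ', hea', hde', hdeg', hh', -⟩ := exists_degrees hM hB'
  have hω : blockInd B χ = ∑ q : ConjClasses G, blockCoeff B q.out * centralChar (χ : G → ℂ) q.out := by
    rw [← omega_eq_sum_classes (isClassFunction_blockCoeff B), blockCoeff_eq_ofOmega, omega_ofOmega]
  rw [hω, ← Finset.sum_sub_distrib]
  refine memI_sum hM _ fun q _ => ?_
  by_cases hq : IsDefClass p d q.out
  · rw [if_pos hq, sub_self]; exact memI_zero hM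
  rw [if_neg hq, sub_zero]
  by_cases hreg : p ∣ orderOf q.out
  · rw [blockCoeff_eq_ofOmega, ofOmega_singular_eq_zero hM (blockInd_mem_intRing hM hB) hreg, zero_mul]
    exact memI_zero hM
  set k := (Nat.card (Subgroup.centralizer ({q.out} : Set G))).factorization p with hk
  rcases lt_trichotomy k d with hlt | heq | hgt
  · exact memI_mul_left hM (memR_blockCoeff hM hB _) (memI_centralChar_of_lt hM hB'
      (mem_blockOf_self hM χ) hφ' hdeg' hh' (by omega))
  · exact absurd ⟨hreg, heq⟩ hq
  · exact memI_mul_right hM (memI_blockCoeff_of_lt hM hB hall (k := k)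
      ((hM.1.pow_dvd_iff_le_factorization Nat.card_pos.ne').mpr le_rfl) (by omega))
      (Blocks.memR_centralChar hM χ _)

/-- The local ideal as an ideal of the local ring. -/
def locIdeal (hM : IsPModular p M) : Ideal (locRing hM) where
  carrier := {x | MemLocalIdeal M (x : ℂ)}
  add_mem' hx hy := memI_add hM hx hy
  zero_mem' := memI_zero hM
  smul_mem' c _ hx := memI_mul_left hM c.2 hx

theorem card_blocks_le (hM : IsPModular p M) (d : ℕ) :
    Nat.card {B : Set (IrrCharacter G) // IsPBlock M B ∧ blockDefect p B = d} ≤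
      Nat.card {q : ConjClasses G // IsDefClass p d q.out} := by
  classical
  have := Fintype.ofFinite (IrrCharacter G)
  have := Fintype.ofFinite (ConjClasses G)
  let β := {B : Set (IrrCharacter G) // IsPBlock M B ∧ blockDefect p B = d}
  let κ := {q : ConjClasses G // IsDefClass p d q.out}
  have := Fintype.ofFinite β
  choose rep hrep using fun B : β => isPBlock_nonempty hM B.2.1
  let k := locRing hM ⧸ locIdeal hM
  have : Nontrivial k := Ideal.Quotient.nontrivial_iff.mpr fun h =>
    not_memI_one hM (show MemLocalIdeal M (((1 : locRing hM) : ℂ)) from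
      (Ideal.eq_top_iff_one _).mp h)
  let A : Matrix β κ k := Matrix.of fun B q => Ideal.Quotient.mk _ ⟨blockCoeff B.1 q.1.out, memR_blockCoeff hM B.2.1 _⟩
  let W : Matrix κ β k := Matrix.of fun q B => Ideal.Quotient.mk _
    ⟨centralChar (rep B : G → ℂ) q.1.out, Blocks.memR_centralChar hM (rep B) _⟩
  have hAW : A * W = 1 := by
    ext B B'
    have hBχ : blockOf M (rep B' : G → ℂ) = B'.1 := (isPBlock_eq_blockOf hM B'.2.1 (hrep B')).symm
    have h := memI_blockInd_sub_sum hM B.2.1 B.2.2 (rep B') (hBχ ▸ B'.2.2)
    rw [← Finset.sum_filter, Finset.sum_subtype (p := fun q : ConjClasses G => IsDefClass p d q.out)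
      (Finset.univ.filter fun q : ConjClasses G => IsDefClass p d q.out) (fun q => by simp) (F := Subtype.fintype _)] at h
    have hI : blockInd B.1 (rep B') = ((1 : Matrix β β ℂ) B B') := by
      by_cases he : B = B'
      · subst he; rw [blockInd_of_mem (hrep B), Matrix.one_apply_eq]
      · rw [Matrix.one_apply_ne he, blockInd_of_notMem]
        exact fun hm => he (Subtype.ext (isPBlock_eq_of_mem hM B.2.1 B'.2.1 hm (hrep B')))
    rw [hI] at h
    rw [Matrix.mul_apply, Matrix.one_apply]
    simp only [A, W, Matrix.of_apply, ← map_mul, ← map_sum]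
    rw [show (if B = B' then (1 : k) else 0) = Ideal.Quotient.mk (locIdeal hM)
      (if B = B' then 1 else 0) by split_ifs <;> simp, Ideal.Quotient.eq]
    show MemLocalIdeal M _
    refine Eq.mp ?_ (memI_sub_comm h)
    congr 1
    simp only [Matrix.one_apply]
    split_ifs <;> simp <;> exact Fintype.sum_equiv (Equiv.refl _) _ _ fun _ => rfl
  have hinj : Function.Injective W.mulVec := by
    intro x y hxy
    have := congrArg A.mulVec hxy
    rwa [Matrix.mulVec_mulVec, Matrix.mulVec_mulVec, hAW, Matrix.one_mulVec, Matrix.one_mulVec] at this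
  rw [Nat.card_eq_fintype_card (α := β), Nat.card_eq_fintype_card]
  exact card_le_of_injective k (Matrix.mulVecLin W) hinj

end Cfsg.Agent.BlockDefect
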